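import Groth.Agent.Ega3A.CechLink
import Mathlib.Algebra.DirectSum.Basic

/-!
# Direct sums of Čech cohomology groups

* `exists_sum`: cycles modulo boundaries commute with direct sums.
* `cech_sum`: the direct sum of the Čech cohomologies of presheaves `F n` on `X₁` is the Čech cohomology of a
  presheaf `G` on `X₂` when the sections of `G` over the finite intersections are the direct sums of those of `F n`.
-/

set_option autoImplicit false
universe u v w

open CategoryTheory Opposite TopologicalSpace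

namespace K992.SumHom

section Algebra

variable {N : Type w} [DecidableEq N]

theorem exists_lift {B C : N → Type*} [∀ n, AddCommGroup (B n)] [∀ n, AddCommGroup (C n)]
    (f : ∀ n, B n →+ C n) (z : DirectSum N C) (h : ∀ n, ∃ y, f n y = z n) :
    ∃ y : DirectSum N B, DirectSum.map f y = z := by
  classical
  choose y hy using h
  refine ⟨∑ n ∈ DFinsupp.support z, DirectSum.of B n (y n), ?_⟩
  rw [map_sum]
  conv_rhs => rw [← DirectSum.sum_support_of z]
  refine Finset.sum_congr rfl fun n _ => ?_
  rw [DirectSum.map_of, hy]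

variable {X₀ X₁ X₂ H : N → Type*} [∀ n, AddCommGroup (X₀ n)] [∀ n, AddCommGroup (X₁ n)]
  [∀ n, AddCommGroup (X₂ n)] [∀ n, AddCommGroup (H n)]

theorem exists_sum (d₀ : ∀ n, X₀ n →+ X₁ n) (d₁ : ∀ n, X₁ n →+ X₂ n) (π : ∀ n, (d₁ n).ker →+ H n)
    (hπ : ∀ n, Function.Surjective (π n)) (hπ0 : ∀ n z, π n z = 0 ↔ ∃ y, d₀ n y = z.1) :
    ∃ Pr : (DirectSum.map d₁).ker →+ DirectSum N H, Function.Surjective Pr ∧
      ∀ z, Pr z = 0 ↔ ∃ y, DirectSum.map d₀ y = z.1 := by
  classical
  -- the sum of the groups of cycles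
  let ι : ∀ n, (d₁ n).ker →+ X₁ n := fun n => (d₁ n).ker.subtype
  have hι : ∀ w : DirectSum N (fun n => (d₁ n).ker), DirectSum.map ι w ∈ (DirectSum.map d₁).ker := by
    intro w
    rw [AddMonoidHom.mem_ker]
    ext n
    rw [DirectSum.map_apply, DirectSum.map_apply]
    exact (w n).2
  let θ : DirectSum N (fun n => (d₁ n).ker) →+ (DirectSum.map d₁).ker := (DirectSum.map ι).codRestrict _ hι
  have hθv : ∀ w n, (θ w).1 n = (w n).1 := fun w n => DirectSum.map_apply ι n w
  have hθ : Function.Bijective θ := by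
    constructor
    · intro a b hab
      ext n
      rw [← hθv, hab, hθv]
    · intro z
      have hz : ∀ n, ∃ y, ι n y = z.1 n := fun n => by
        refine ⟨⟨z.1 n, ?_⟩, rfl⟩
        have := DFunLike.congr_fun (show DirectSum.map d₁ z.1 = 0 from z.2) n
        rw [DirectSum.map_apply] at this
        exact this
      obtain ⟨w, hw⟩ := exists_lift ι z.1 hz
      exact ⟨w, Subtype.ext hw⟩
  let e := AddEquiv.ofBijective θ hθ
  refine ⟨(DirectSum.map π).comp e.symm.toAddMonoidHom, ?_, ?_⟩
  · intro x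
    obtain ⟨y, hy⟩ := exists_lift π x fun n => hπ n _
    exact ⟨e y, (congrArg (DirectSum.map π) (e.symm_apply_apply y)).trans hy⟩
  · intro z
    obtain ⟨w, rfl⟩ := e.surjective z
    have h1 : ((DirectSum.map π).comp e.symm.toAddMonoidHom) (e w) = DirectSum.map π w :=
      congrArg (DirectSum.map π) (e.symm_apply_apply w)
    rw [h1]
    constructor
    · intro h
      refine exists_lift d₀ _ fun n => ?_
      have h2 := DFunLike.congr_fun h n
      rw [DirectSum.map_apply] at h2
      obtain ⟨y, hy⟩ := (hπ0 n (w n)).1 h2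
      exact ⟨y, hy.trans (hθv w n).symm⟩
    · rintro ⟨y, hy⟩
      ext n
      rw [DirectSum.map_apply]
      refine (hπ0 n (w n)).2 ⟨y n, ?_⟩
      have h3 := DFunLike.congr_fun hy n
      rw [DirectSum.map_apply] at h3
      exact h3.trans (hθv w n)

/-- Direct sums and finite products. -/
theorem bijective_pi {I : Type*} [Finite I] {F : N → I → Type*} {G : I → Type*}
    [∀ n i, AddCommGroup (F n i)] [∀ i, AddCommGroup (G i)] (φ : ∀ n i, F n i →+ G i)
    (hφ : ∀ i, Function.Bijective (DirectSum.toAddMonoid (fun n => φ n i) : DirectSum N (fun n => F n i) →+ G i))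
    (E : ∀ n, (∀ i, F n i) →+ ∀ i, G i) (hE : ∀ n s i, E n s i = φ n i (s i)) :
    Function.Bijective (DirectSum.toAddMonoid E : DirectSum N (fun n => ∀ i, F n i) →+ ∀ i, G i) := by
  classical
  have := Fintype.ofFinite I
  let ev : ∀ i, ∀ n, (∀ i, F n i) →+ F n i := fun i n => Pi.evalAddMonoidHom (fun i => F n i) i
  have key : ∀ (x : DirectSum N (fun n => ∀ i, F n i)) (i : I),
      DirectSum.toAddMonoid E x i = DirectSum.toAddMonoid (fun n => φ n i) (DirectSum.map (ev i) x) := by
    intro x i
    induction x using DirectSum.induction_on with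
    | zero => simp
    | of n s => rw [DirectSum.toAddMonoid_of, DirectSum.map_of, DirectSum.toAddMonoid_of, hE]; rfl
    | add a b ha hb => rw [map_add, Pi.add_apply, ha, hb, map_add, map_add]
  constructor
  · rw [injective_iff_map_eq_zero]
    intro x hx
    ext n i
    have h1 : DirectSum.map (ev i) x = 0 := by
      apply (hφ i).1
      rw [← key, hx, map_zero]
      rfl
    have h2 := DFunLike.congr_fun h1 n
    rw [DirectSum.map_apply] at h2
    exact h2
  · intro t
    choose w hw using fun i => (hφ i).2 (t i)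
    refine ⟨∑ i, DirectSum.map (fun n => AddMonoidHom.single (fun i => F n i) i) (w i), ?_⟩
    funext j
    rw [key, map_sum, Finset.sum_eq_single j]
    · rw [← hw j]
      congr 1
      ext n
      rw [DirectSum.map_apply, DirectSum.map_apply]
      exact Pi.single_eq_same (M := fun i => F n i) j (w j n)
    · intro i _ hij
      ext n
      rw [DirectSum.map_apply, DirectSum.map_apply]
      exact Pi.single_eq_of_ne (M := fun i => F n i) (Ne.symm hij) (w i n)
    · intro h
      exact absurd (Finset.mem_univ j) h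

end Algebra

section Cech

open Groth.Agent.CohqA Groth.Agent.Ega3A

variable {X₁ X₂ : TopCat.{u}} {ι : Type u} [Finite ι] (U₁ : ι → Opens X₁) (U₂ : ι → Opens X₂)
  (F : ℤ → TopCat.Presheaf AddCommGrpCat.{u} X₁) (G : TopCat.Presheaf AddCommGrpCat.{u} X₂)
  (φ : ∀ (n : ℤ) (p : ℕ) (i : Fin (p + 1) → ι),
    (F n).obj (op (⨅ a, U₁ (i a))) →+ G.obj (op (⨅ a, U₂ (i a))))
  (hφ : ∀ (n : ℤ) (p : ℕ) (i : Fin (p + 2) → ι) (j : Fin (p + 2))
    (s : (F n).obj (op (⨅ a, U₁ ((i ∘ j.succAbove) a)))),
    φ n (p + 1) i (CechBasic.res (F n) (CechBasic.le_face U₁ i j) s) =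
      CechBasic.res G (CechBasic.le_face U₂ i j) (φ n p (i ∘ j.succAbove) s))

/-- The comparison on cochains. -/
def E (n : ℤ) (p : ℕ) : CechBasic.Cochain U₁ (F n) p →+ CechBasic.Cochain U₂ G p where
  toFun s i := φ n p i (s i)
  map_zero' := by
    funext i
    exact map_zero _
  map_add' s t := by
    funext i
    exact map_add _ _ _

include hφ in
omit [Finite ι] in
theorem E_d (n : ℤ) (p : ℕ) (s : CechBasic.Cochain U₁ (F n) p) :
    E U₁ U₂ F G φ n (p + 1) (CechBasic.dC U₁ (F n) p s) = CechBasic.dC U₂ G p (E U₁ U₂ F G φ n p s) := by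
  funext i
  rw [CechBasic.dC_apply]
  change φ n (p + 1) i (CechBasic.dC U₁ (F n) p s i) = _
  rw [CechBasic.dC_apply, map_sum]
  refine Finset.sum_congr rfl fun j _ => ?_
  rw [map_zsmul, hφ]
  rfl

include hφ in
theorem cech_sum (hb : ∀ (p : ℕ) (i : Fin (p + 1) → ι), Function.Bijective (DirectSum.toAddMonoid
      (fun n => φ n p i) : DirectSum ℤ (fun n => (F n).obj (op (⨅ a, U₁ (i a)))) →+ _)) (p : ℕ) :
    Nonempty (DirectSum ℤ (fun n => CohB1.cechHTop U₁ (F n) (p + 1)) ≃+ CohB1.cechHTop U₂ G (p + 1)) := by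
  choose π h1 h2 using fun n => CechLink.cech_homology U₁ (F n) p
  obtain ⟨Pr, h3, h4⟩ := exists_sum _ _ π h1 h2
  obtain ⟨π', h1', h2'⟩ := CechLink.cech_homology U₂ G p
  have hE : ∀ q, Function.Bijective (DirectSum.toAddMonoid (fun n => E U₁ U₂ F G φ n q) :
      DirectSum ℤ (fun n => CechBasic.Cochain U₁ (F n) q) →+ CechBasic.Cochain U₂ G q) := fun q =>
    bijective_pi (fun n i => φ n q i) (fun i => hb q i) _ fun n s i => rfl
  let e : ∀ q, DirectSum ℤ (fun n => CechBasic.CX U₁ (F n) q) ≃+ CechBasic.CX U₂ G q := fun q =>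
    (AddEquiv.ofBijective (DirectSum.map fun n => (CechBasic.equivX U₁ (F n) q).toAddMonoidHom)
      ⟨(DirectSum.map_injective _).2 fun n => (CechBasic.equivX U₁ (F n) q).injective,
        (DirectSum.map_surjective _).2 fun n => (CechBasic.equivX U₁ (F n) q).surjective⟩).trans
      ((AddEquiv.ofBijective _ (hE q)).trans (CechBasic.equivX U₂ G q).symm)
  have hed : ∀ q (x : DirectSum ℤ (fun n => CechBasic.CX U₁ (F n) q)),
      e (q + 1) (DirectSum.map (fun n => (CechBasic.CXd U₁ (F n) q).hom) x) =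
        (CechBasic.CXd U₂ G q).hom (e q x) := by
    intro q x
    induction x using DirectSum.induction_on with
    | zero => simp
    | of n s =>
      apply (CechBasic.equivX U₂ G (q + 1)).injective
      have a1 : ∀ r (y : CechBasic.CX U₁ (F n) r), CechBasic.equivX U₂ G r
          (e r (DirectSum.of (fun n => (CechBasic.CX U₁ (F n) r : Type u)) n y)) =
          E U₁ U₂ F G φ n r (CechBasic.equivX U₁ (F n) r y) := by
        intro r y
        change CechBasic.equivX U₂ G r ((CechBasic.equivX U₂ G r).symm _) = _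
        rw [AddEquiv.apply_symm_apply]
        have b1 : (DirectSum.map fun n => (CechBasic.equivX U₁ (F n) r).toAddMonoidHom)
            (DirectSum.of (fun n => (CechBasic.CX U₁ (F n) r : Type u)) n y) =
            DirectSum.of (fun n => CechBasic.Cochain U₁ (F n) r) n (CechBasic.equivX U₁ (F n) r y) :=
          DirectSum.map_of (fun n => (CechBasic.equivX U₁ (F n) r).toAddMonoidHom) n y
        refine (congrArg (DirectSum.toAddMonoid (fun n => E U₁ U₂ F G φ n r)) b1).trans ?_
        exact DirectSum.toAddMonoid_of _ n _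
      rw [DirectSum.map_of, a1]
      refine Eq.trans ?_ (CechBasic.equivX_CXd _ _ q _).symm
      rw [a1, ← E_d U₁ U₂ F G φ hφ, ← CechBasic.equivX_CXd]
    | add a b ha hb => rw [map_add, map_add, ha, hb, map_add, map_add]
  exact CechLink.nonempty_addEquiv _ _ (CechBasic.CXd U₂ G p).hom (CechBasic.CXd U₂ G (p + 1)).hom
    (e p) (e (p + 1)) (e (p + 1 + 1)) (hed p) (hed (p + 1)) Pr h3 h4 π' h1' h2'

end Cech

end K992.SumHom
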